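import Mathlib

/-!
# Numerical bounds for element orders in `PGU`
-/

set_option autoImplicit false

namespace CfsgLib.Known.PGUMaxOrder

/-- The torus term of an orbit of length `w` of `x ↦ x ^ (-q)`. -/
def T (q w : ℕ) : ℕ := if Even w then q ^ w - 1 else q ^ w + 1

/-- The reduced torus term. -/
def U (q w : ℕ) : ℕ := T q w / (q + 1)

variable {q : ℕ}

theorem dvd_T (q w : ℕ) : q + 1 ∣ T q w := by
  rw [T]
  split_ifs with h
  · obtain ⟨j, rfl⟩ := h
    rw [← two_mul, pow_mul]
    have h1 : q ^ 2 - 1 ∣ (q ^ 2) ^ j - 1 := by simpa using Nat.sub_dvd_pow_sub_pow (q ^ 2) 1 j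
    refine dvd_trans ⟨q - 1, ?_⟩ h1
    rw [← Nat.sq_sub_sq, one_pow]
  · simpa using (Nat.not_even_iff_odd.1 h).nat_add_dvd_pow_add_pow q 1

theorem succ_mul_U (q w : ℕ) : (q + 1) * U q w = T q w := Nat.mul_div_cancel' (dvd_T q w)

theorem T_le (q w : ℕ) : T q w ≤ q ^ w + 1 := by
  rw [T]; split_ifs <;> omega

theorem T_pos (hq : 2 ≤ q) {w : ℕ} (hw : 1 ≤ w) : 0 < T q w := by
  rw [T]
  have : 2 ≤ q ^ w := hq.trans (Nat.le_self_pow (by omega) q)
  split_ifs <;> omega

theorem U_pos (hq : 2 ≤ q) {w : ℕ} (hw : 1 ≤ w) : 0 < U q w := by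
  refine Nat.pos_of_mul_pos_left (b := U q w) (a := q + 1) ?_
  rw [succ_mul_U]; exact T_pos hq hw

theorem U_one (q : ℕ) : U q 1 = 1 := by
  rw [U, T, if_neg (by decide), pow_one, Nat.div_self (Nat.succ_pos q)]

theorem U_le (hq : 2 ≤ q) {w : ℕ} (hw : 1 ≤ w) : U q w ≤ q ^ (w - 1) := by
  refine Nat.le_of_mul_le_mul_left ?_ (show 0 < q + 1 by omega)
  rw [succ_mul_U]
  refine (T_le q w).trans ?_
  obtain ⟨v, rfl⟩ := Nat.exists_eq_add_of_le hw
  rw [Nat.add_sub_cancel_left, pow_add, pow_one, Nat.succ_mul]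
  exact Nat.add_le_add_left (Nat.one_le_pow _ _ (by omega)) _

theorem two_pow_gap (hq : 2 ≤ q) {n : ℕ} (hn : 1 ≤ n) : q ^ n + 2 ≤ q ^ (n + 1) := by
  have h : 2 ≤ q ^ n := hq.trans (Nat.le_self_pow (by omega) q)
  rw [pow_succ]
  nlinarith

theorem two_block (hq : 2 ≤ q) {a b : ℕ} (hb : 2 ≤ b) (hab : b < a) :
    (q ^ a + 1) * (q ^ b + 1) + (q + 1) ≤ q ^ (a + b - 1) * (q + 1) := by
  obtain ⟨n, hn⟩ : ∃ n, a + b = n + 3 := ⟨a + b - 3, by omega⟩
  have h1 : q ^ a ≤ q ^ (n + 1) := Nat.pow_le_pow_right (by omega) (by omega)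
  have h2 : q ^ b ≤ q ^ n := Nat.pow_le_pow_right (by omega) (by omega)
  have h3 : q ^ 2 ≤ q ^ n := Nat.pow_le_pow_right (by omega) (by omega)
  have h4 : q + 2 ≤ q ^ 2 := by nlinarith
  have h5 : (q ^ a + 1) * (q ^ b + 1) = q ^ (n + 3) + q ^ a + q ^ b + 1 := by
    rw [← hn, pow_add]; ring
  have h6 : 2 * q ^ (n + 1) ≤ q ^ (n + 2) := by
    rw [pow_succ q (n + 1), mul_comm 2]; exact Nat.mul_le_mul_left _ hq
  have h7 : 2 * q ^ n ≤ q ^ (n + 1) := by
    rw [pow_succ q n, mul_comm 2]; exact Nat.mul_le_mul_left _ hq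
  have h8 : q ^ (a + b - 1) * (q + 1) = q ^ (n + 3) + q ^ (n + 2) := by
    rw [show a + b - 1 = n + 2 by omega, pow_succ q (n + 2)]; ring
  omega

/-- Several orbits. -/
theorem multi_bound (hq : 2 ≤ q) (W : Finset ℕ) (hW : W.Nonempty) (h1 : ∀ w ∈ W, 1 ≤ w) {S : ℕ}
    (hsum : ∑ w ∈ W, w ≤ S) (hS : 2 ≤ S) (hone : ∀ w, W = {w} → 2 * w ≤ S) :
    (q + 1) * ∏ w ∈ W, U q w ≤ q ^ (S - 1) + 1 ∧
      (Odd S → (q + 1) * (∏ w ∈ W, U q w) + 1 ≤ q ^ (S - 1)) := by
  have low : ∀ w, 1 ≤ w → w + 2 ≤ S → (q + 1) * (∏ x ∈ W, U q x) = T q w →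
      (q + 1) * ∏ x ∈ W, U q x ≤ q ^ (S - 1) + 1 ∧
        (Odd S → (q + 1) * (∏ x ∈ W, U q x) + 1 ≤ q ^ (S - 1)) := by
    intro w hw hwS he
    have h2 := T_le q w
    have h3 := two_pow_gap hq (n := S - 2) (by omega)
    rw [show S - 2 + 1 = S - 1 by omega] at h3
    have h4 : q ^ w ≤ q ^ (S - 2) := Nat.pow_le_pow_right (by omega) (by omega)
    omega
  obtain ⟨a, ha, hmax⟩ := W.exists_max_image id hW
  dsimp only [id] at hmax
  by_cases hb : ∃ b ∈ W, b ≠ a ∧ 2 ≤ b
  · obtain ⟨b, hb, hne, hb2⟩ := hb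
    have hab : b < a := lt_of_le_of_ne (hmax b hb) hne
    set R := (W.erase a).erase b
    have hbm : b ∈ W.erase a := Finset.mem_erase.2 ⟨hne, hb⟩
    have hprod : ∏ w ∈ W, U q w = U q a * (U q b * ∏ w ∈ R, U q w) := by
      rw [Finset.mul_prod_erase _ _ hbm, Finset.mul_prod_erase _ _ ha]
    have hsum' : a + (b + ∑ w ∈ R, w) ≤ S := by
      rw [Finset.add_sum_erase _ (fun w => w) hbm, Finset.add_sum_erase _ (fun w => w) ha]; exact hsum
    have hR : ∏ w ∈ R, U q w ≤ q ^ ∑ w ∈ R, w := by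
      rw [← Finset.prod_pow_eq_pow_sum]
      exact Finset.prod_le_prod' fun w hw => (U_le hq (h1 w (Finset.mem_of_mem_erase (Finset.mem_of_mem_erase hw)))).trans
        (Nat.pow_le_pow_right (by omega) (Nat.sub_le _ _))
    have hstrong : (q + 1) * (∏ w ∈ W, U q w) + 1 ≤ q ^ (S - 1) := by
      refine Nat.le_of_mul_le_mul_left ?_ (show 0 < q + 1 by omega)
      have hpos : 1 ≤ q ^ ∑ w ∈ R, w := Nat.one_le_pow _ _ (by omega)
      calc (q + 1) * ((q + 1) * (∏ w ∈ W, U q w) + 1)
          = T q a * T q b * ∏ w ∈ R, U q w + (q + 1) := by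
            rw [hprod, ← succ_mul_U q a, ← succ_mul_U q b]; ring
        _ ≤ (q ^ a + 1) * (q ^ b + 1) * q ^ (∑ w ∈ R, w) + (q + 1) * q ^ (∑ w ∈ R, w) :=
            Nat.add_le_add (Nat.mul_le_mul (Nat.mul_le_mul (T_le q a) (T_le q b)) hR)
              (Nat.le_mul_of_pos_right _ hpos)
        _ = ((q ^ a + 1) * (q ^ b + 1) + (q + 1)) * q ^ (∑ w ∈ R, w) := by ring
        _ ≤ q ^ (a + b - 1) * (q + 1) * q ^ (∑ w ∈ R, w) := Nat.mul_le_mul_right _ (two_block hq hb2 hab)
        _ = (q + 1) * q ^ (a + b - 1 + ∑ w ∈ R, w) := by rw [pow_add]; ring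
        _ ≤ (q + 1) * q ^ (S - 1) := Nat.mul_le_mul_left _ (Nat.pow_le_pow_right (by omega) (by omega))
    exact ⟨by omega, fun _ => hstrong⟩
  · push Not at hb
    have hrest : ∀ w ∈ W.erase a, w = 1 := fun w hw => by
      have := h1 w (Finset.mem_of_mem_erase hw)
      have := hb w (Finset.mem_of_mem_erase hw) (Finset.ne_of_mem_erase hw)
      omega
    have hprod : (q + 1) * ∏ w ∈ W, U q w = T q a := by
      rw [← Finset.mul_prod_erase _ _ ha, Finset.prod_eq_one fun w hw => by rw [hrest w hw, U_one], mul_one,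
        succ_mul_U]
    by_cases hW1 : W = {a}
    · have h2a := hone a hW1
      rcases Nat.lt_or_ge 2 S with h | h
      · exact low a (h1 a ha) (by have := h1 a ha; omega) hprod
      · obtain rfl : S = 2 := le_antisymm h hS
        obtain rfl : a = 1 := by have := h1 a ha; omega
        refine ⟨?_, fun h => absurd h (by decide)⟩
        rw [hprod]
        exact T_le q 1
    · have h1W : 1 ∈ W.erase a := by
        rcases Finset.eq_empty_or_nonempty (W.erase a) with h | ⟨w, hw⟩
        · rw [Finset.erase_eq_empty_iff] at h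
          rcases h with h | h
          · exact absurd h hW.ne_empty
          · exact absurd h hW1
        · exact hrest w hw ▸ hw
      have hsum' : a + 1 ≤ S := by
        refine le_trans ?_ hsum
        rw [← Finset.add_sum_erase _ (fun w => w) ha]
        exact Nat.add_le_add_left (Finset.single_le_sum (f := fun w : ℕ => w) (fun _ _ => Nat.zero_le _) h1W) _
      rcases Nat.lt_or_ge (a + 1) S with h | h
      · exact low a (h1 a ha) (by omega) hprod
      · rw [hprod, show S - 1 = a by omega]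
        refine ⟨T_le q a, fun ho => ?_⟩
        have hev : Even a := by
          obtain ⟨k, hk⟩ := ho
          exact ⟨k, by omega⟩
        rw [T, if_pos hev]
        have : 1 ≤ q ^ a := Nat.one_le_pow _ _ (by omega)
        omega

/-- The four bounds. -/
def Claim (p f q d N : ℕ) : Prop :=
  (Odd d → 2 ≤ f → N ≤ q ^ (d - 1) - 1) ∧ (Odd d → f = 1 → N ≤ (p ^ (d - 2) + 1) * p) ∧
    (Even d → 2 < q → N ≤ q ^ (d - 1) + 1) ∧ (Even d → q = 2 → N ≤ 4 * (2 ^ (d - 3) + 1))

theorem claim_of_small {p f q d N : ℕ} (hq : q = p ^ f) (hd : 3 ≤ d) (h : N + 1 ≤ q ^ (d - 1)) :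
    Claim p f q d N := by
  refine ⟨fun _ _ => by omega, fun _ hf => ?_, fun _ _ => by omega, fun _ hq2 => ?_⟩
  · subst hf
    rw [pow_one] at hq
    subst hq
    rw [Nat.succ_mul, ← pow_succ, show d - 2 + 1 = d - 1 by omega]
    omega
  · subst hq2
    rw [mul_add, show (4 : ℕ) * 2 ^ (d - 3) = 2 ^ (d - 1) by
      rw [show (4 : ℕ) = 2 ^ 2 by rfl, ← pow_add]; congr 1; omega]
    omega

theorem clog_facts {p e X : ℕ} (hp : 2 ≤ p) (he : e ≤ X + 1) :
    Nat.clog p e ≤ X ∧ (3 ≤ X → Nat.clog p e ≤ X - 1) ∧ (X = 2 → 3 ≤ p → Nat.clog p e ≤ 1) := by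
  refine ⟨Nat.clog_le_of_le_pow ?_, fun hX => Nat.clog_le_of_le_pow ?_, fun hX h3 => Nat.clog_le_of_le_pow ?_⟩
  · exact he.trans (Nat.lt_pow_self (show 1 < p by omega))
  · have h : ∀ k, k + 4 ≤ 2 ^ (k + 2) := by
      intro k
      induction k with
      | zero => simp
      | succ k ih => rw [show k + 1 + 2 = k + 2 + 1 by omega, pow_succ]; omega
    have := h (X - 3)
    rw [show X - 3 + 2 = X - 1 by omega] at this
    have := Nat.pow_le_pow_left hp (X - 1)
    omega
  · rw [pow_one]; omega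

/-- A single orbit. -/
theorem claim_single {p f q d w e : ℕ} (hp : p.Prime) (hf : 1 ≤ f) (hq : q = p ^ f) (hd : 3 ≤ d)
    (h32 : ¬ (d = 3 ∧ q = 2)) (hw : 1 ≤ w) (he : 1 ≤ e) (hwe : w * e = d) :
    Claim p f q d (U q w * p ^ Nat.clog p e) := by
  have hq2 : 2 ≤ q := hq ▸ hp.two_le.trans (Nat.le_self_pow (by omega) p)
  have hpq : p ≤ q := hq ▸ Nat.le_self_pow (by omega) p
  refine claim_of_small hq hd ?_
  rcases Nat.lt_or_ge e 2 with he2 | he2
  · obtain rfl : e = 1 := by omega
    rw [mul_one] at hwe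
    subst hwe
    rw [Nat.clog_one_right, pow_zero, mul_one]
    refine Nat.le_of_mul_le_mul_left ?_ (show 0 < q + 1 by omega)
    rw [Nat.mul_succ, succ_mul_U]
    obtain ⟨v, rfl⟩ : ∃ v, w = v + 3 := ⟨w - 3, by omega⟩
    have h1 := T_le q (v + 3)
    have h2 : q ^ 2 ≤ q ^ (v + 2) := Nat.pow_le_pow_right (by omega) (by omega)
    rw [show v + 3 - 1 = v + 2 by omega, Nat.succ_mul, ← pow_succ']
    have h3 : q + 2 ≤ q ^ 2 := by nlinarith
    have h4 : q ^ (v + 2 + 1) = q ^ (v + 3) := rfl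
    omega
  rcases Nat.lt_or_ge w 2 with hw2 | hw2
  · obtain rfl : w = 1 := by omega
    rw [one_mul] at hwe
    subst hwe
    rw [U_one, one_mul]
    by_cases h : Nat.clog p e ≤ e - 2
    · calc p ^ Nat.clog p e + 1 ≤ q ^ (e - 2) + 1 :=
            Nat.add_le_add_right ((Nat.pow_le_pow_right hp.pos h).trans (Nat.pow_le_pow_left hpq _)) 1
        _ ≤ q ^ (e - 1) := by
          have := two_pow_gap hq2 (n := e - 2) (by omega)
          rw [show e - 2 + 1 = e - 1 by omega] at this
          omega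
    · obtain ⟨rfl, rfl⟩ : e = 3 ∧ p = 2 := by
        by_contra hcon
        refine h (Nat.clog_le_of_le_pow ?_)
        rcases Nat.lt_or_ge e 4 with h4 | h4
        · obtain rfl : e = 3 := by omega
          have := hp.two_le
          simp only [true_and] at hcon
          simp only [show (3 : ℕ) - 2 = 1 by rfl, pow_one]
          omega
        · have h' : ∀ k, k + 4 ≤ 2 ^ (k + 2) := by
            intro k
            induction k with
            | zero => simp
            | succ k ih => rw [show k + 1 + 2 = k + 2 + 1 by omega, pow_succ]; omega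
          have := h' (e - 4)
          rw [show e - 4 + 2 = e - 2 by omega] at this
          have := Nat.pow_le_pow_left hp.two_le (e - 2)
          omega
      have h3 : 3 ≤ q := by
        rcases Nat.lt_or_ge q 3 with h' | h'
        · exact absurd ⟨rfl, by omega⟩ h32
        · exact h'
      have h2 := (clog_facts (p := 2) (e := 3) (X := 2) le_rfl le_rfl).1
      have h5 : 2 ^ Nat.clog 2 3 ≤ 2 ^ 2 := Nat.pow_le_pow_right (by omega) h2
      show 2 ^ Nat.clog 2 3 + 1 ≤ q ^ 2
      nlinarith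
  · have hc := (clog_facts (p := p) (e := e) (X := e - 1) hp.two_le (by omega)).1
    calc U q w * p ^ Nat.clog p e + 1 ≤ q ^ (w - 1) * q ^ (e - 1) + 1 :=
          Nat.add_le_add_right (Nat.mul_le_mul (U_le hq2 hw)
            ((Nat.pow_le_pow_left hpq _).trans (Nat.pow_le_pow_right (by omega) hc))) 1
      _ ≤ q ^ (d - 2) + 1 := by
        rw [← pow_add]
        refine Nat.add_le_add_right (Nat.pow_le_pow_right (by omega) ?_) 1
        have : (w - 1) * (e - 1) ≥ 1 := Nat.mul_pos (by omega) (by omega)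
        obtain ⟨a, rfl⟩ := Nat.exists_eq_add_of_le hw
        obtain ⟨b, rfl⟩ := Nat.exists_eq_add_of_le he
        simp only [Nat.add_sub_cancel_left] at this ⊢
        have : d = 1 + a + b + a * b := by rw [← hwe]; ring
        omega
      _ ≤ q ^ (d - 1) := by
        have := two_pow_gap hq2 (n := d - 2) (by omega)
        rw [show d - 2 + 1 = d - 1 by omega] at this
        omega

/-- Several orbits with `S` eigenvalues and excess multiplicity `X`. -/
theorem claim_multi {p f q d L S X e : ℕ} (hp : p.Prime) (hf : 1 ≤ f) (hq : q = p ^ f) (hd : 3 ≤ d)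
    (hS : 2 ≤ S) (hSX : S + X = d) (he : e ≤ X + 1) (hL : L ≤ q ^ (S - 1) + 1)
    (hLodd : Odd S → L + 1 ≤ q ^ (S - 1)) :
    Claim p f q d (L * p ^ Nat.clog p e) := by
  have hq2 : 2 ≤ q := hq ▸ hp.two_le.trans (Nat.le_self_pow (by omega) p)
  have hpq : p ≤ q := hq ▸ Nat.le_self_pow (by omega) p
  obtain ⟨hc, hc3, hc2⟩ := clog_facts hp.two_le he
  set c := Nat.clog p e
  rcases Nat.lt_or_ge X 3 with hX | hX
  swap
  · refine claim_of_small hq hd ?_
    calc L * p ^ c + 1 ≤ (q ^ (S - 1) + 1) * q ^ (X - 1) + 1 :=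
          Nat.add_le_add_right (Nat.mul_le_mul hL
            ((Nat.pow_le_pow_left hpq _).trans (Nat.pow_le_pow_right (by omega) (hc3 hX)))) 1
      _ = q ^ (d - 2) + (q ^ (X - 1) + 1) := by
        rw [Nat.succ_mul, ← pow_add, show S - 1 + (X - 1) = d - 2 by omega, add_assoc]
      _ ≤ q ^ (d - 2) + q ^ (d - 2) := by
        refine Nat.add_le_add_left ?_ _
        have h1 : q ^ (X - 1) ≤ q ^ (d - 3) := Nat.pow_le_pow_right (by omega) (by omega)
        have h2 := two_pow_gap hq2 (n := d - 3) (by omega)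
        rw [show d - 3 + 1 = d - 2 by omega] at h2
        omega
      _ ≤ q ^ (d - 1) := by
        rw [show d - 1 = d - 2 + 1 by omega, pow_succ q (d - 2)]
        nlinarith [Nat.zero_le (q ^ (d - 2))]
  interval_cases X
  · obtain rfl : S = d := by omega
    rw [show c = 0 by omega, pow_zero, mul_one]
    refine ⟨fun ho _ => by have := hLodd ho; omega, fun ho h1 => ?_, fun _ _ => hL, fun _ h2 => ?_⟩
    · exact (claim_of_small (p := p) (f := f) hq hd (hLodd ho)).2.1 ho h1
    · subst h2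
      rw [mul_add, show (4 : ℕ) * 2 ^ (S - 3) = 2 ^ (S - 1) by
        rw [show (4 : ℕ) = 2 ^ 2 by rfl, ← pow_add]; congr 1; omega]
      omega
  · -- one repeated eigenvalue
    have hpc : L * p ^ c ≤ L * p := Nat.mul_le_mul_left _ (by
      simpa using Nat.pow_le_pow_right hp.pos hc)
    have hS1 : S - 1 = d - 2 := by omega
    rw [hS1] at hL hLodd
    rcases Nat.lt_or_ge f 2 with hf2 | hf2
    · obtain rfl : f = 1 := by omega
      rw [pow_one] at hq
      subst hq
      by_cases hev : Even d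
      · refine claim_of_small (pow_one q).symm hd ?_
        have ho : Odd S := by
          obtain ⟨k, hk⟩ := hev
          exact ⟨k - 1, by omega⟩
        have h1 : (L + 1) * q ≤ q ^ (d - 2) * q := Nat.mul_le_mul_right _ (hLodd ho)
        rw [Nat.succ_mul, ← pow_succ, show d - 2 + 1 = d - 1 by omega] at h1
        omega
      · refine ⟨fun _ h => absurd h (by omega), fun _ _ => hpc.trans (Nat.mul_le_mul_right _ hL),
          fun h => absurd h hev, fun h => absurd h hev⟩
    · refine claim_of_small hq hd ?_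
      have hpp : p * p ≤ q := by
        rw [hq, ← pow_two]; exact Nat.pow_le_pow_right hp.pos hf2
      have h1 : L * p ^ c ≤ (q ^ (d - 2) + 1) * p := hpc.trans (Nat.mul_le_mul_right _ hL)
      have h2 : q ≤ q ^ (d - 2) := Nat.le_self_pow (by omega) q
      rw [show d - 1 = d - 2 + 1 by omega, pow_succ]
      have h3 : p + 2 ≤ q := by nlinarith [hp.two_le]
      nlinarith
  · have hS1 : S - 1 = d - 3 := by omega
    rw [hS1] at hL hLodd
    have hd4 : 4 ≤ d := by omega
    rcases Nat.lt_or_ge f 2 with hf2 | hf2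
    · obtain rfl : f = 1 := by omega
      rw [pow_one] at hq
      subst hq
      by_cases hev : Even d
      · rcases Nat.lt_or_ge 2 q with h | h
        · refine claim_of_small (pow_one q).symm hd ?_
          have h1 : L * q ^ c ≤ (q ^ (d - 3) + 1) * q := Nat.mul_le_mul hL (by
            simpa using Nat.pow_le_pow_right hp.pos (hc2 rfl h))
          rw [Nat.succ_mul, ← pow_succ, show d - 3 + 1 = d - 2 by omega] at h1
          have h2 : q ≤ q ^ (d - 2) := Nat.le_self_pow (by omega) q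
          rw [show d - 1 = d - 2 + 1 by omega, pow_succ]
          nlinarith
        · obtain rfl : q = 2 := le_antisymm h hq2
          refine ⟨fun ho => absurd hev (Nat.not_even_iff_odd.2 ho), fun ho => absurd hev (Nat.not_even_iff_odd.2 ho),
            fun _ h => absurd h (by omega), fun _ _ => ?_⟩
          rw [mul_comm 4]
          exact Nat.mul_le_mul hL (Nat.pow_le_pow_right (by omega) hc)
      · refine claim_of_small (pow_one q).symm hd ?_
        have ho : Odd S := by
          obtain ⟨k, hk⟩ := Nat.not_even_iff_odd.1 hev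
          exact ⟨k - 1, by omega⟩
        have h1 : (L + 1) * q ^ c ≤ q ^ (d - 3) * q ^ 2 :=
          Nat.mul_le_mul (hLodd ho) (Nat.pow_le_pow_right (by omega) hc)
        rw [← pow_add, show d - 3 + 2 = d - 1 by omega, Nat.succ_mul] at h1
        have := Nat.one_le_pow c q (by omega)
        omega
    · refine claim_of_small hq hd ?_
      have hpp : p ^ c ≤ q :=
        (Nat.pow_le_pow_right hp.pos (hc.trans hf2)).trans hq.ge
      have h1 : L * p ^ c ≤ (q ^ (d - 3) + 1) * q := Nat.mul_le_mul hL hpp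
      rw [Nat.succ_mul, ← pow_succ, show d - 3 + 1 = d - 2 by omega] at h1
      have h2 : q ^ 2 ≤ q ^ (d - 2) := Nat.pow_le_pow_right (by omega) (by omega)
      rw [show d - 1 = d - 2 + 1 by omega, pow_succ]
      have h4 : 4 ≤ q := by
        rw [hq]
        calc 4 = 2 ^ 2 := by rfl
          _ ≤ p ^ 2 := Nat.pow_le_pow_left hp.two_le 2
          _ ≤ p ^ f := Nat.pow_le_pow_right hp.pos hf2
      nlinarith

end CfsgLib.Known.PGUMaxOrder
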