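import Cfsg.Agent.Lib.Known.PGUMaxOrder.Arith

/-!
# A power of a matrix with `x ↦ x ^ (-q)`-stable spectrum is scalar early
-/

set_option autoImplicit false

open Polynomial Function

namespace CfsgLib.Known.PGUMaxOrder

variable {K : Type*} [Field K] {p f : ℕ} [hp : Fact p.Prime] [CharP K p]

/-- The map on eigenvalues. -/
def phi (q : ℕ) (x : K) : K := (x ^ q)⁻¹

theorem phi_injective {q : ℕ} (hq : q = p ^ f) : Injective (phi (K := K) q) := by
  intro x y h
  haveI : ExpChar K p := ExpChar.prime hp.out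
  have h' := inv_injective h
  rw [hq, ← iterateFrobenius_def, ← iterateFrobenius_def] at h'
  exact (iterateFrobenius K p f).injective h'

omit hp [CharP K p] in
theorem phi_iterate (q n : ℕ) (x : K) :
    (phi q)^[n] x = if Even n then x ^ q ^ n else (x ^ q ^ n)⁻¹ := by
  induction n with
  | zero => simp
  | succ n ih =>
    rw [iterate_succ_apply', ih, phi]
    by_cases h : Even n
    · rw [if_pos h, if_neg (by simpa [Nat.even_add_one] using h), ← pow_mul, ← pow_succ]
    · rw [if_neg h, if_pos (Nat.even_add_one.2 h), inv_pow, inv_inv, ← pow_mul, ← pow_succ]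

omit hp [CharP K p] in
theorem pow_T {q w : ℕ} (hq : 1 ≤ q) {x : K} (hx : x ≠ 0) (h : (phi q)^[w] x = x) : x ^ T q w = 1 := by
  rw [phi_iterate] at h
  rw [T]
  split_ifs at h ⊢ with hw
  · have h1 : x ^ (q ^ w - 1) * x = 1 * x := by
      rw [← pow_succ, Nat.sub_add_cancel (Nat.one_le_pow _ _ hq), h, one_mul]
    exact mul_right_cancel₀ hx h1
  · rw [pow_succ]
    nth_rewrite 2 [← h]
    exact mul_inv_cancel₀ (pow_ne_zero _ hx)

/-- Power killing. -/
theorem pow_eq_scalar [IsAlgClosed K] {κ : Type*} [Fintype κ] [DecidableEq κ] [DecidableEq K] (A : Matrix κ κ K)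
    {L k : ℕ} {μ : K} (hμ : ∀ x ∈ A.charpoly.roots, x ^ L = μ)
    (hk : ∀ x, A.charpoly.roots.count x ≤ p ^ k) : A ^ (L * p ^ k) = Matrix.scalar κ (μ ^ p ^ k) := by
  have hχ : A.charpoly = ∏ x ∈ A.charpoly.roots.toFinset, (X - C x) ^ A.charpoly.roots.count x := by
    conv_lhs => rw [(IsAlgClosed.splits A.charpoly).eq_prod_roots_of_monic A.charpoly_monic]
    rw [Finset.prod_multiset_map_count]
  haveI : ExpChar K p := ExpChar.prime hp.out
  obtain ⟨c, hc⟩ : A.charpoly ∣ (X ^ L - C μ) ^ p ^ k := by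
    rw [hχ]
    refine Finset.prod_dvd_of_coprime (fun x _ y _ hxy => ((pairwise_coprime_X_sub_C injective_id hxy)).pow)
      fun x hx => ?_
    refine (pow_dvd_pow _ (hk x)).trans (pow_dvd_pow_of_dvd (dvd_iff_isRoot.2 ?_) _)
    simp [IsRoot, hμ x (Multiset.mem_toFinset.1 hx)]
  have h := congrArg (aeval A) hc
  rw [map_mul, Matrix.aeval_self_charpoly, zero_mul, sub_pow_char_pow, ← pow_mul, ← C_pow, map_sub, map_pow,
    aeval_X, aeval_C, sub_eq_zero] at h
  exact h

/-- The main bound over an algebraically closed field. -/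
theorem exists_pow_scalar [IsAlgClosed K] {κ : Type*} [Fintype κ] [DecidableEq κ] (A : Matrix κ κ K) {q : ℕ}
    (hf : 1 ≤ f) (hq : q = p ^ f) {d : ℕ} (hcard : Fintype.card κ = d) (hd : 3 ≤ d) (h32 : ¬ (d = 3 ∧ q = 2))
    (hdet : A.det ≠ 0) (hR : A.charpoly.roots.map (phi q) = A.charpoly.roots) :
    ∃ N, 0 < N ∧ Claim p f q d N ∧ ∃ c : K, A ^ N = Matrix.scalar κ c := by
  classical
  have hpp := hp.out
  have hq2 : 2 ≤ q := hq ▸ hpp.two_le.trans (Nat.le_self_pow (by omega) p)
  set R := A.charpoly.roots with hRdef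
  have hinj := phi_injective (K := K) (p := p) hq
  have hRcard : Multiset.card R = d := by
    rw [hRdef, IsAlgClosed.card_roots_eq_natDegree, Matrix.charpoly_natDegree_eq_dim, hcard]
  have hne : ∀ x ∈ R, x ≠ 0 := fun x hx h => hdet (by
    subst h
    rw [Matrix.det_eq_sign_charpoly_coeff, coeff_zero_eq_eval_zero, (mem_roots'.1 hx).2.eq_zero, mul_zero])
  have hcount : ∀ x, R.count (phi q x) = R.count x := fun x => by
    conv_lhs => rw [← hR]
    exact Multiset.count_map_eq_count' _ _ hinj x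
  have hiter : ∀ n x, R.count ((phi q)^[n] x) = R.count x := fun n x => by
    induction n with
    | zero => rfl
    | succ n ih => rw [iterate_succ_apply', hcount, ih]
  set s := R.toFinset with hs
  have hmem : ∀ n, ∀ x ∈ s, (phi q)^[n] x ∈ s := fun n x hx => by
    rw [hs, Multiset.mem_toFinset, ← Multiset.count_pos, hiter, Multiset.count_pos, ← Multiset.mem_toFinset]
    exact hx
  set w := fun x : K => minimalPeriod (phi q) x with hw
  have hw1 : ∀ x ∈ s, 1 ≤ w x := by
    intro x hx
    obtain ⟨i, -, j, -, hne', hij⟩ := Finset.exists_ne_map_eq_of_card_lt_of_maps_to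
      (s := Finset.range (s.card + 1)) (t := s) (by simp) (f := fun n => (phi q)^[n] x) (fun n _ => hmem n x hx)
    refine Function.IsPeriodicPt.minimalPeriod_pos (n := max i j - min i j) (by omega) ?_
    rcases Nat.lt_or_ge i j with h | h
    · rw [max_eq_right h.le, min_eq_left h.le]
      exact hinj.iterate i (by rw [← iterate_add_apply, Nat.add_sub_cancel' h.le]; exact hij.symm)
    · rw [max_eq_left h, min_eq_right h]
      exact hinj.iterate j (by rw [← iterate_add_apply, Nat.add_sub_cancel' h]; exact hij)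
  set O := fun x : K => (Finset.range (w x)).image (fun i => (phi q)^[i] x) with hO
  have hOcard : ∀ x ∈ s, (O x).card = w x := fun x _ => by
    show ((Finset.range (w x)).image _).card = _
    rw [Finset.card_image_of_injOn, Finset.card_range]
    intro i hi j hj hij
    exact iterate_injOn_Iio_minimalPeriod (by simpa using hi) (by simpa using hj) hij
  have hOsub : ∀ x ∈ s, ∀ y ∈ O x, y ∈ s ∧ w y = w x := fun x hx y hy => by
    obtain ⟨i, -, rfl⟩ := Finset.mem_image.1 hy
    refine ⟨hmem i x hx, ?_⟩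
    refine minimalPeriod_apply_iterate ?_ i
    exact Function.minimalPeriod_pos_iff_mem_periodicPts.1 (hw1 x hx)
  have hT : ∀ x ∈ s, x ^ T q (w x) = 1 := fun x hx =>
    pow_T (by omega) (hne x (Multiset.mem_toFinset.1 hx)) iterate_minimalPeriod
  have hsne : s.Nonempty := by
    rw [hs, Multiset.toFinset_nonempty]
    intro h
    rw [h, Multiset.card_zero] at hRcard
    omega
  obtain ⟨x₀, hx₀, hmax⟩ := s.exists_max_image (fun x => R.count x) hsne
  set e := R.count x₀ with he
  set k := Nat.clog p e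
  have hle : ∀ x, R.count x ≤ p ^ k := fun x => by
    refine le_trans ?_ (Nat.le_pow_clog hpp.one_lt _)
    by_cases hx : x ∈ s
    · exact hmax x hx
    · rw [Multiset.count_eq_zero_of_notMem (fun h => hx (Multiset.mem_toFinset.2 h))]; exact Nat.zero_le _
  have he1 : 1 ≤ e := Multiset.count_pos.2 (Multiset.mem_toFinset.1 hx₀)
  by_cases hsingle : s ⊆ O x₀
  · have hsO : s = O x₀ := Finset.Subset.antisymm hsingle fun y hy => (hOsub x₀ hx₀ y hy).1
    have hwe : w x₀ * e = d := by
      rw [← hRcard, ← Multiset.toFinset_sum_count_eq, ← hs, Finset.sum_congr rfl (g := fun _ => e) fun y hy => ?_,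
        Finset.sum_const, smul_eq_mul, hsO, hOcard x₀ hx₀]
      rw [hsO] at hy
      obtain ⟨i, -, rfl⟩ := Finset.mem_image.1 hy
      exact hiter i x₀
    refine ⟨U q (w x₀) * p ^ k, Nat.mul_pos (U_pos hq2 (hw1 _ hx₀)) (pow_pos hpp.pos _),
      claim_single hpp hf hq hd h32 (hw1 _ hx₀) he1 hwe, _, pow_eq_scalar A (μ := x₀ ^ U q (w x₀)) ?_ hle⟩
    intro y hy
    have hy' := hsingle (Multiset.mem_toFinset.2 hy)
    obtain ⟨i, -, rfl⟩ := Finset.mem_image.1 hy'
    clear hy hy'
    induction i with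
    | zero => rfl
    | succ i ih =>
      rw [iterate_succ_apply', phi]
      set z := (phi q)^[i] x₀
      have hz : z ∈ s := hmem i x₀ hx₀
      have hz0 : z ≠ 0 := hne z (Multiset.mem_toFinset.1 hz)
      have h1 : z ^ (U q (w x₀) * (q + 1)) = 1 := by
        rw [mul_comm, succ_mul_U]
        have hzw : w z = w x₀ := minimalPeriod_apply_iterate
          (Function.minimalPeriod_pos_iff_mem_periodicPts.1 (hw1 x₀ hx₀)) i
        rw [← hzw]
        exact hT z hz
      rw [← ih, inv_pow, ← pow_mul, inv_eq_of_mul_eq_one_right]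
      rw [← pow_add]
      convert h1 using 2
      ring
  · obtain ⟨y₀, hy₀, hy₀'⟩ := Finset.not_subset.1 hsingle
    set W := s.image w with hW
    have hfib : ∀ v ∈ W, v ≤ (s.filter fun x => w x = v).card := by
      intro v hv
      obtain ⟨x, hx, rfl⟩ := Finset.mem_image.1 hv
      refine (hOcard x hx).ge.trans (Finset.card_le_card fun y hy => Finset.mem_filter.2 ?_)
      exact hOsub x hx y hy
    have hsum : ∑ v ∈ W, v ≤ s.card := by
      rw [Finset.card_eq_sum_card_image w s]
      exact Finset.sum_le_sum hfib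
    have hS2 : 2 ≤ s.card := by
      refine Finset.one_lt_card.2 ⟨x₀, hx₀, y₀, hy₀, fun h => hy₀' ?_⟩
      exact h ▸ Finset.mem_image.2 ⟨0, Finset.mem_range.2 (hw1 x₀ hx₀), rfl⟩
    have hone : ∀ v, W = {v} → 2 * v ≤ s.card := by
      intro v hv
      have hwv : ∀ x ∈ s, w x = v := fun x hx => Finset.mem_singleton.1 (hv ▸ Finset.mem_image_of_mem w hx)
      have hdisj : Disjoint (O x₀) (O y₀) := by
        rw [Finset.disjoint_left]
        intro z hz hz'
        obtain ⟨i, -, rfl⟩ := Finset.mem_image.1 hz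
        obtain ⟨j, hj, hji⟩ := Finset.mem_image.1 hz'
        refine hy₀' ?_
        have hj' : j ≤ w y₀ := (Finset.mem_range.1 hj).le
        have : y₀ = (phi q)^[w y₀ - j + i] x₀ := by
          rw [iterate_add_apply, ← hji, ← iterate_add_apply, Nat.sub_add_cancel hj']
          exact (iterate_minimalPeriod).symm
        refine Finset.mem_image.2 ⟨(w y₀ - j + i) % w x₀, Finset.mem_range.2 (Nat.mod_lt _ (hw1 x₀ hx₀)), ?_⟩
        rw [iterate_mod_minimalPeriod_eq, ← this]
      have := Finset.card_le_card (show O x₀ ∪ O y₀ ⊆ s from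
        Finset.union_subset (fun z hz => (hOsub x₀ hx₀ z hz).1) fun z hz => (hOsub y₀ hy₀ z hz).1)
      rw [Finset.card_union_of_disjoint hdisj, hOcard x₀ hx₀, hOcard y₀ hy₀, hwv x₀ hx₀, hwv y₀ hy₀] at this
      omega
    obtain ⟨hL, hLo⟩ := multi_bound hq2 W (hsne.image w)
      (fun v hv => by obtain ⟨x, hx, rfl⟩ := Finset.mem_image.1 hv; exact hw1 x hx) hsum hS2 hone
    have hsumcount : s.card + (e - 1) ≤ d := by
      rw [← hRcard, ← Multiset.toFinset_sum_count_eq, ← hs, ← Finset.add_sum_erase _ _ hx₀, ← he,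
        ← Finset.card_erase_add_one hx₀]
      have h1 : (s.erase x₀).card ≤ ∑ x ∈ s.erase x₀, R.count x := by
        rw [Finset.card_eq_sum_ones]
        exact Finset.sum_le_sum fun x hx =>
          Multiset.count_pos.2 (Multiset.mem_toFinset.1 (Finset.mem_of_mem_erase hx))
      omega
    refine ⟨(q + 1) * (∏ v ∈ W, U q v) * p ^ k, Nat.mul_pos (Nat.mul_pos (Nat.succ_pos _)
      (Finset.prod_pos fun v hv => U_pos hq2 ?_)) (pow_pos hpp.pos _),
      claim_multi (S := s.card) (X := d - s.card) hpp hf hq hd hS2 (by omega) (by omega) hL hLo,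
      _, pow_eq_scalar A (μ := 1) ?_ hle⟩
    · obtain ⟨x, hx, rfl⟩ := Finset.mem_image.1 hv
      exact hw1 x hx
    intro x hx
    have hx' : x ∈ s := Multiset.mem_toFinset.2 hx
    rw [← Finset.mul_prod_erase _ _ (Finset.mem_image_of_mem w hx'), ← mul_assoc, succ_mul_U, pow_mul, hT x hx',
      one_pow]

end CfsgLib.Known.PGUMaxOrder
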