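import Cfsg.Agent.Lib.Known.PGUMaxOrder.Bound
import Cfsg.Agent.Lib.Known.PSLTori
import Cfsg.Agent.Lib.Classical.ClassTheory.SelfDual

/-!
# Self-dual polynomials and `x ↦ x ^ (-q)`-stable multisets of roots
-/

set_option autoImplicit false

open Polynomial

namespace CfsgLib.Known.PGUMaxOrder

open CfsgLib.Classical.ClassTheory

variable {F K : Type*} [Field F] [Field K]

theorem dualPoly_X_sub_C (ψ : K →+* K) {x : K} (hx : x ≠ 0) : dualPoly ψ (X - C x) = X - C (ψ x)⁻¹ := by
  have h : ψ x ≠ 0 := (map_ne_zero ψ).2 hx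
  ext j
  rw [coeff_dualPoly, natDegree_X_sub_C]
  rcases j with _ | _ | j
  · rw [revAt_le (by omega)]
    simp [coeff_X, coeff_C, inv_neg]
  · rw [revAt_le le_rfl]
    simp [coeff_X, coeff_C, h]
  · rw [revAt_eq_self_of_lt (by omega)]
    simp [coeff_X, coeff_C]

theorem dualPoly_prod (ψ : K →+* K) {R : Multiset K} (hR : ∀ x ∈ R, x ≠ 0) :
    dualPoly ψ (R.map fun x => X - C x).prod = ((R.map fun x => (ψ x)⁻¹).map fun x => X - C x).prod := by
  induction R using Multiset.induction_on with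
  | empty => simp [dualPoly_one]
  | cons a T ih =>
    simp only [Multiset.map_cons, Multiset.prod_cons]
    rw [dualPoly_mul, dualPoly_X_sub_C ψ (hR a (Multiset.mem_cons_self a T)),
      ih fun x hx => hR x (Multiset.mem_cons_of_mem hx)]

theorem dualPoly_map (ι : F →+* K) (σ : F →+* F) (ψ : K →+* K) (h : ∀ a, ι (σ a) = ψ (ι a)) (χ : F[X]) :
    (dualPoly σ χ).map ι = dualPoly ψ (χ.map ι) := by
  ext j
  rw [coeff_map, coeff_dualPoly, coeff_dualPoly, natDegree_map, coeff_map, coeff_map, map_mul, map_inv₀, h, h]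

variable {p f : ℕ} [Fact p.Prime] [CharP K p] {q : ℕ}

theorem roots_map_phi [IsAlgClosed K] (ι : F →+* K) (σ : F →+* F) (hq : q = p ^ f) (hσ : ∀ a, σ a = a ^ q)
    {χ : F[X]} (hm : χ.Monic) (h0 : χ.coeff 0 ≠ 0) (hd : dualPoly σ χ = χ) :
    (χ.map ι).roots.map (phi q) = (χ.map ι).roots := by
  haveI : ExpChar K p := ExpChar.prime Fact.out
  let ψ := iterateFrobenius K p f
  have hψ : ∀ a, ψ a = a ^ q := fun a => by rw [hq]; exact iterateFrobenius_def p f a
  have hR : ∀ x ∈ (χ.map ι).roots, x ≠ 0 := fun x hx h => h0 (ι.injective (by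
    subst h
    rw [map_zero, ← coeff_map, coeff_zero_eq_eval_zero, (mem_roots'.1 hx).2.eq_zero]))
  have h := dualPoly_prod ψ hR
  rw [← (IsAlgClosed.splits (χ.map ι)).eq_prod_roots_of_monic (hm.map ι),
    ← dualPoly_map ι σ ψ (fun a => by rw [hσ, map_pow, hψ]), hd] at h
  conv_rhs => rw [h, roots_multiset_prod_X_sub_C]
  exact Multiset.map_congr rfl fun x _ => by rw [phi, hψ]

omit [Fact p.Prime] [CharP K p] in
theorem map_range_shift {α : Type*} (g : α → α) (x : α) {k : ℕ} (h : g^[k] x = x) :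
    ((Multiset.range k).map fun i => g^[i] x).map g = (Multiset.range k).map fun i => g^[i] x := by
  rw [Multiset.map_map]
  have e : (Multiset.range (k + 1)).map (fun i => g^[i] x) =
      x ::ₘ (Multiset.range k).map (g ∘ fun i => g^[i] x) := by
    rw [← Multiset.coe_range, ← Multiset.coe_range, List.range_succ_eq_map, Multiset.map_coe, Multiset.map_coe,
      Multiset.cons_coe, List.map_cons, List.map_map]
    simp [Function.comp_def, Function.iterate_succ_apply']
  rw [Multiset.range_succ, Multiset.map_cons, h] at e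
  exact ((Multiset.cons_inj_right x).1 e).symm

/-- The polynomial of an orbit. -/
theorem exists_dual_poly [Fintype F] [Algebra F K] (σ : F →+* F) (hq : q = p ^ f) (hF : Fintype.card F = q ^ 2)
    (hσ : ∀ a, σ a = a ^ q) {ζ : K} (hζ : ζ ≠ 0) {k : ℕ} (hk : 1 ≤ k) (hfix : (phi q)^[k] ζ = ζ) :
    ∃ χ : F[X], χ.Monic ∧ χ.natDegree = k ∧ χ.coeff 0 ≠ 0 ∧ dualPoly σ χ = χ ∧
      ζ ∈ (χ.map (algebraMap F K)).roots := by
  haveI : ExpChar K p := ExpChar.prime Fact.out
  set R := (Multiset.range k).map fun i => (phi q)^[i] ζ with hRdef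
  have hshift : R.map (phi q) = R := map_range_shift _ _ hfix
  have hne : ∀ i, (phi q)^[i] ζ ≠ 0 := fun i => by
    rw [phi_iterate]
    split_ifs
    exacts [pow_ne_zero _ hζ, inv_ne_zero (pow_ne_zero _ hζ)]
  have hR : ∀ x ∈ R, x ≠ 0 := fun x hx => by
    obtain ⟨i, -, rfl⟩ := Multiset.mem_map.1 hx
    exact hne i
  set P := (R.map fun x => X - C x).prod with hP
  let π := iterateFrobenius K p (f + f)
  have hπ : ∀ a, π a = phi q (phi q a) := fun a => by
    rw [phi, phi, inv_pow, inv_inv, ← pow_mul, hq, ← pow_add]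
    exact iterateFrobenius_def p (f + f) a
  have hPπ : P.map π = P := by
    rw [hP, Polynomial.map_multiset_prod, Multiset.map_map]
    conv_rhs => rw [← hshift, ← hshift, Multiset.map_map, Multiset.map_map]
    congr 1
    refine Multiset.map_congr rfl fun x _ => ?_
    simp [Function.comp, hπ]
  have hlift : P ∈ Polynomial.lifts (algebraMap F K) := by
    refine (lifts_iff_coeff_lifts _).2 fun n => ?_
    rcases eq_or_ne (P.coeff n) 0 with h | h
    · exact ⟨0, by rw [map_zero, h]⟩
    have h2 : (P.coeff n) ^ (q ^ 2) = P.coeff n := by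
      conv_rhs => rw [← hPπ, coeff_map]
      rw [hq, ← pow_mul, mul_two]
      exact (iterateFrobenius_def p (f + f) _).symm
    obtain ⟨c, hc⟩ := CfsgLib.Known.PSLTori.exists_algebraMap_eq (F := F) (P.coeff n) (by
      have h3 : 1 ≤ q ^ 2 := hF ▸ Fintype.card_pos
      rw [← Nat.sub_add_cancel h3, pow_succ] at h2
      rw [hF]
      exact (mul_eq_right₀ h).1 h2)
    exact ⟨c, hc⟩
  have hPm : P.Monic := monic_multiset_prod_of_monic _ _ fun x _ => monic_X_sub_C x
  have hPdeg : P.natDegree = k := by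
    rw [hP, natDegree_multiset_prod_X_sub_C_eq_card, hRdef, Multiset.card_map, Multiset.card_range]
  obtain ⟨χ, hχ, hχd, hχm⟩ := lifts_and_natDegree_eq_and_monic hlift hPm
  have hroots : (χ.map (algebraMap F K)).roots = R := by rw [hχ, hP, roots_multiset_prod_X_sub_C]
  refine ⟨χ, hχm, hχd.trans hPdeg, fun h => ?_, ?_, ?_⟩
  · have : (0 : K) ∈ (χ.map (algebraMap F K)).roots := by
      rw [mem_roots (hχm.map _).ne_zero, IsRoot, ← coeff_zero_eq_eval_zero, coeff_map, h, map_zero]
    exact hR 0 (hroots ▸ this) rfl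
  · refine map_injective (algebraMap F K) (algebraMap F K).injective ?_
    let ψ := iterateFrobenius K p f
    have hψ : ∀ a, ψ a = a ^ q := fun a => by rw [hq]; exact iterateFrobenius_def p f a
    rw [dualPoly_map (algebraMap F K) σ ψ (fun a => by rw [hσ, map_pow, hψ]), hχ, hP, dualPoly_prod ψ hR]
    conv_rhs => rw [← hshift]
    congr 2
    exact Multiset.map_congr rfl fun x _ => by rw [phi, hψ]
  · rw [hroots, hRdef]
    exact Multiset.mem_map.2 ⟨0, Multiset.mem_range.2 hk, rfl⟩

end CfsgLib.Known.PGUMaxOrder
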