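import Cfsg.Prelude.Def_LieClassical
import Cfsg.Agent.Lib.Known.PGUMaxOrder.Dual
import Cfsg.Agent.Lib.Classical.ClassTheory.RegularSU
import Cfsg.Agent.Lib.Classical.ClassTheory.GUSemisimple
import Cfsg.Agent.Lib.Classical.Unitary.DetQuot

/-!
# The largest element order of `PGU`
-/

set_option autoImplicit false

open Polynomial

namespace CfsgLib.Known.PGUMaxOrder

open CfsgLib.Classical.ClassTheory CfsgLib.Classical.Herm

universe u

variable {F : Type u} [Field F] [Fintype F] {p f q d : ℕ}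

theorem eq_scalar_of_mem_center (hF : Fintype.card F = q ^ 2) (hd : 1 ≤ d) {g : ↥(Cfsg.GU d F q)}
    (hg : g ∈ Subgroup.center ↥(Cfsg.GU d F q)) :
    ∃ c : F, ((g : GL (Fin d) F) : Matrix (Fin d) (Fin d) F) = Matrix.scalar (Fin d) c := by
  have h1 : guEquiv d hF g ∈ Subgroup.center (HU (hermStd d hF)) := by
    refine Subgroup.mem_center_iff.2 fun x => ?_
    obtain ⟨x', rfl⟩ := (guEquiv d hF).surjective x
    rw [← map_mul, ← map_mul, Subgroup.mem_center_iff.1 hg x']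
  obtain ⟨c, -, hc⟩ := (hermStd_isHerm (n := d) hF).eigen_of_mem_center_HU
    (by rw [finrank_std]; exact hd) h1
  refine ⟨c, Matrix.ext fun i j => ?_⟩
  have h2 := congrFun ((guEquiv_apply hF g (Pi.single j 1)).symm.trans (hc _)) i
  rw [Matrix.mulVec_single_one, Pi.smul_apply, smul_eq_mul] at h2
  rw [Matrix.scalar_apply, Matrix.diagonal_apply]
  refine h2.trans ?_
  rw [Pi.single_apply]
  split_ifs <;> simp

theorem orderOf_le_bound [Fact p.Prime] [CharP F p] (hf : 1 ≤ f) (hq : q = p ^ f) (hF : Fintype.card F = q ^ 2)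
    (hd : 3 ≤ d) (h32 : ¬ (d = 3 ∧ q = 2)) (x : ↥(Cfsg.GU d F q) ⧸ Subgroup.center ↥(Cfsg.GU d F q)) :
    ∃ N, orderOf x ≤ N ∧ Claim p f q d N := by
  obtain ⟨g, rfl⟩ := QuotientGroup.mk_surjective x
  set M := ((g : GL (Fin d) F) : Matrix (Fin d) (Fin d) F) with hM
  let ι := algebraMap F (AlgebraicClosure F)
  haveI : CharP (AlgebraicClosure F) p := charP_of_injective_algebraMap ι.injective p
  have h0 : M.charpoly.coeff 0 ≠ 0 := CfsgLib.Known.SemisimpleClass.charpoly_coeff_zero_ne (g : GL (Fin d) F)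
  have hdet : M.det ≠ 0 := ((Matrix.isUnit_iff_isUnit_det M).1 (g : GL (Fin d) F).isUnit).ne_zero
  have hR := roots_map_phi ι (powHom hF) hq (powHom_apply hF) M.charpoly_monic h0 (dualPoly_charpoly_gu hF g)
  rw [← Matrix.charpoly_map M ι] at hR
  obtain ⟨N, hN, hclaim, c, hc⟩ := exists_pow_scalar (M.map ι) hf hq (Fintype.card_fin d) hd h32
    (by rw [← RingHom.mapMatrix_apply, ← RingHom.map_det]; exact fun h => hdet (ι.injective (by rw [h, map_zero]))) hR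
  refine ⟨N, orderOf_le_of_pow_eq_one hN ?_, hclaim⟩
  rw [← QuotientGroup.mk_pow, QuotientGroup.eq_one_iff, Subgroup.mem_center_iff]
  intro h
  refine Subtype.ext (Units.ext ?_)
  show ((h : GL (Fin d) F) : Matrix (Fin d) (Fin d) F) * (M ^ N) = M ^ N * ((h : GL (Fin d) F) : Matrix (Fin d) (Fin d) F)
  apply Matrix.map_injective ι.injective
  show ι.mapMatrix _ = ι.mapMatrix _
  rw [map_mul, map_mul, map_pow, show ι.mapMatrix M = M.map ι from rfl, hc]
  exact (Matrix.scalar_commute c (Commute.all c) _).symm.eq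

theorem clog_dvd_of_regular [Fact p.Prime] [CharP F p] {r : ℕ} (hr : 0 < r) {u : Matrix (Fin r) (Fin r) F}
    (h1 : (u - 1) ^ r = 0) (h2 : (u - 1).rank = r - 1) {N : ℕ} (hN : u ^ N = 1) :
    p ^ Nat.clog p r ∣ N := by
  have hp : p.Prime := Fact.out
  haveI : Nonempty (Fin r) := ⟨⟨0, hr⟩⟩
  haveI : ExpChar F p := ExpChar.prime hp
  have hch : ∀ j, (u - 1) ^ p ^ j = u ^ p ^ j - 1 := fun j => by
    rw [sub_pow_char_pow_of_commute _ _ (Commute.one_right u), one_pow]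
  have hk : u ^ p ^ Nat.clog p r = 1 := by
    rw [← sub_eq_zero, ← hch]
    exact pow_eq_zero_of_le (Nat.le_pow_clog hp.one_lt r) h1
  obtain ⟨j, hj, hje⟩ := (Nat.dvd_prime_pow hp).1 (orderOf_dvd_of_pow_eq_one hk)
  have h3 : (u - 1) ^ p ^ j = 0 := by rw [hch, ← hje, pow_orderOf_eq_one, sub_self]
  have hrj : r ≤ p ^ j := by
    have h4 := rank_pow_of_regular hr (Fintype.card_fin r) h1 h2 (p ^ j)
    rw [h3, Matrix.rank_zero] at h4
    simp [Known.Jordan.prof] at h4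
    omega
  refine dvd_trans ?_ (orderOf_dvd_of_pow_eq_one hN)
  rw [hje]
  exact Nat.pow_dvd_pow p (Nat.clog_le_of_le_pow hrj)

theorem exists_block [Fact p.Prime] [CharP F p] (hf : 1 ≤ f) (hq : q = p ^ f) (hF : Fintype.card F = q ^ 2)
    {k r : ℕ} (hk : 1 ≤ k) (hr : 1 ≤ r) :
    ∃ x : ↥(Cfsg.GU (k + r) F q) ⧸ Subgroup.center ↥(Cfsg.GU (k + r) F q),
      T q k * p ^ Nat.clog p r ≤ orderOf x := by
  classical
  have hp : p.Prime := Fact.out
  have hq2 : 2 ≤ q := hq ▸ hp.two_le.trans (Nat.le_self_pow (by omega) p)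
  let K := AlgebraicClosure F
  let ι := algebraMap F K
  haveI : CharP K p := charP_of_injective_algebraMap ι.injective p
  have hpq : p ∣ q ^ k := dvd_pow (hq ▸ dvd_pow_self p (by omega)) (by omega)
  have hpT : ¬ p ∣ T q k := by
    intro h
    have h1 : 1 ≤ q ^ k := Nat.one_le_pow _ _ (by omega)
    refine hp.not_dvd_one ?_
    rw [T] at h
    split_ifs at h
    · have := Nat.dvd_sub hpq h
      rwa [Nat.sub_sub_self h1] at this
    · exact (Nat.dvd_add_right hpq).1 h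
  haveI : NeZero (T q k : K) := ⟨fun h => hpT ((CharP.cast_eq_zero_iff K p _).1 h)⟩
  obtain ⟨ζ, hζ⟩ := HasEnoughRootsOfUnity.exists_primitiveRoot K (T q k)
  have hT0 : 0 < T q k := T_pos hq2 hk
  have hζ0 : ζ ≠ 0 := hζ.ne_zero (by omega)
  have hfix : (phi q)^[k] ζ = ζ := by
    have h := hζ.pow_eq_one
    rw [phi_iterate]
    rw [T] at h
    split_ifs at h ⊢
    · have h1 : 1 ≤ q ^ k := Nat.one_le_pow _ _ (by omega)
      rw [← Nat.sub_add_cancel h1, pow_succ, h, one_mul]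
    · rw [pow_succ] at h
      exact inv_eq_of_mul_eq_one_right h
  obtain ⟨χ, hχm, hχd, hχ0, hχs, hζχ⟩ := exists_dual_poly (powHom hF) hq hF (powHom_apply hF) hζ0 hk hfix
  obtain ⟨x₁, -, hc₁⟩ := exists_gu_semisimple hF (p := p) hχm hχd hχ0 hχs
  obtain ⟨u₀, hu₀⟩ := exists_regular_unipotent (F := F) r hr
  obtain ⟨x₂, hx₂⟩ := exists_gu_of_unipotent hF u₀ ⟨r, (regular_of_rank hu₀).1⟩
  have hxm : IsConj (u₀ : Matrix (Fin r) (Fin r) F) ((x₂ : GL (Fin r) F) : Matrix (Fin r) (Fin r) F) :=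
    MonoidHom.map_isConj (Units.coeHom (Matrix (Fin r) (Fin r) F)) hx₂
  obtain ⟨hu1, hu2⟩ := regular_of_rank fun j => (rank_of_isConj hxm j).symm.trans (hu₀ j)
  have hmem : blockHom k r ((x₁ : GL (Fin k) F), (x₂ : GL (Fin r) F)) ∈ Cfsg.GU (k + r) F q := by
    rw [mem_GU_iff hF, ustar_blockHom, ← map_mul]
    show blockHom k r (ustar (powHom hF) (x₁ : GL (Fin k) F) * (x₁ : GL (Fin k) F),
      ustar (powHom hF) (x₂ : GL (Fin r) F) * (x₂ : GL (Fin r) F)) = 1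
    rw [(mem_GU_iff hF _).1 x₁.2, (mem_GU_iff hF _).1 x₂.2]
    exact map_one _
  set g : ↥(Cfsg.GU (k + r) F q) := ⟨_, hmem⟩
  set A := ((x₁ : GL (Fin k) F) : Matrix (Fin k) (Fin k) F)
  set u := ((x₂ : GL (Fin r) F) : Matrix (Fin r) (Fin r) F)
  set N := orderOf (QuotientGroup.mk' (Subgroup.center ↥(Cfsg.GU (k + r) F q)) g) with hN
  refine ⟨QuotientGroup.mk' _ g, ?_⟩
  have hNpos : 0 < N := orderOf_pos _
  have hcen : g ^ N ∈ Subgroup.center ↥(Cfsg.GU (k + r) F q) := by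
    rw [← QuotientGroup.eq_one_iff, QuotientGroup.mk_pow]
    exact pow_orderOf_eq_one _
  obtain ⟨c, hc⟩ := eq_scalar_of_mem_center hF (by omega) hcen
  rw [Subgroup.coe_pow] at hc
  have hb : ((g : GL (Fin (k + r)) F) ^ N) = blockHom k r ((x₁ : GL (Fin k) F) ^ N, (x₂ : GL (Fin r) F) ^ N) :=
    (map_pow (blockHom k r) _ _).symm
  rw [hb, blockHom_val] at hc
  have hc' : Matrix.fromBlocks (((x₁ : GL (Fin k) F) ^ N : GL (Fin k) F) : Matrix (Fin k) (Fin k) F) 0 0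
      (((x₂ : GL (Fin r) F) ^ N : GL (Fin r) F) : Matrix (Fin r) (Fin r) F) =
        Matrix.fromBlocks (Matrix.scalar (Fin k) c) 0 0 (Matrix.scalar (Fin r) c) := by
    apply (Matrix.reindex finSumFinEquiv finSumFinEquiv).injective
    rw [hc]
    simp [Matrix.reindex_apply, Matrix.fromBlocks_diagonal, Matrix.submatrix_diagonal_equiv, Function.comp_def]
  obtain ⟨hA, -, -, hu⟩ := Matrix.fromBlocks_inj.1 hc'
  rw [Units.val_pow_eq_pow_val] at hA hu
  -- the scalar is `1`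
  have hc1 : c = 1 := by
    have hnil : IsNilpotent (u ^ N - 1) := by
      obtain ⟨w, hw⟩ := sub_one_dvd_pow_sub_one u N
      have hw' : u ^ N - 1 = (∑ i ∈ Finset.range N, u ^ i) * (u - 1) := (geom_sum_mul u N).symm
      rw [hw']
      exact (Commute.sum_left _ _ _ fun i _ => ((Commute.refl u).sub_right (Commute.one_right _)).pow_left i).isNilpotent_mul_left
        ⟨r, hu1⟩
    rw [hu, ← map_one (Matrix.scalar (Fin r)), ← map_sub] at hnil
    obtain ⟨j, hj⟩ := hnil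
    rw [← map_pow, ← map_zero (Matrix.scalar (Fin r))] at hj
    haveI : Nonempty (Fin r) := ⟨⟨0, hr⟩⟩
    exact sub_eq_zero.1 (eq_zero_of_pow_eq_zero (Matrix.scalar_inj.1 hj))
  rw [hc1, map_one] at hA hu
  have hTN : T q k ∣ N := by
    rw [hζ.eq_orderOf]
    refine orderOf_dvd_of_pow_eq_one ?_
    have hroot : (A.map ι).charpoly.IsRoot ζ := by
      rw [Matrix.charpoly_map, hc₁]
      exact (mem_roots'.1 hζχ).2
    rw [IsRoot, Matrix.eval_charpoly] at hroot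
    obtain ⟨v, hv0, hv⟩ := Matrix.exists_mulVec_eq_zero_iff.2 hroot
    have hev : (A.map ι).mulVec v = ζ • v := by
      rw [Matrix.sub_mulVec, sub_eq_zero] at hv
      rw [← hv]
      funext i
      simp [Matrix.scalar_apply, Matrix.mulVec_diagonal]
    have hpow : ∀ n : ℕ, ((A.map ι) ^ n).mulVec v = ζ ^ n • v := by
      intro n
      induction n with
      | zero => simp
      | succ n ih => rw [pow_succ, ← Matrix.mulVec_mulVec, hev, Matrix.mulVec_smul, ih, smul_smul, pow_succ']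
    have h := hpow N
    rw [show (A.map ι) = ι.mapMatrix A from rfl, ← map_pow, hA, map_one, Matrix.one_mulVec] at h
    exact (smul_left_injective K hv0 (show (ζ ^ N) • v = (1 : K) • v by rw [one_smul]; exact h.symm))
  have hpN := clog_dvd_of_regular (p := p) hr hu1 hu2 hu
  exact Nat.le_of_dvd hNpos
    (((hp.coprime_iff_not_dvd.2 hpT).symm.pow_right _).mul_dvd_of_dvd_of_dvd hTN hpN)

theorem pgu_max (hp : p.Prime) (hf : 1 ≤ f) (hd : 3 ≤ d) (hq : q = p ^ f) (hF : Fintype.card F = q ^ 2)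
    (h32 : ¬ (d = 3 ∧ q = 2)) :
    (Odd d → 2 ≤ f → (∀ g : (↥(Cfsg.GU d F q) ⧸ Subgroup.center ↥(Cfsg.GU d F q)), orderOf g ≤ q ^ (d - 1) - 1) ∧
      ∃ g : (↥(Cfsg.GU d F q) ⧸ Subgroup.center ↥(Cfsg.GU d F q)), orderOf g = q ^ (d - 1) - 1) ∧
    (Odd d → f = 1 → (∀ g : (↥(Cfsg.GU d F q) ⧸ Subgroup.center ↥(Cfsg.GU d F q)), orderOf g ≤ (p ^ (d - 2) + 1) * p) ∧
      ∃ g : (↥(Cfsg.GU d F q) ⧸ Subgroup.center ↥(Cfsg.GU d F q)), orderOf g = (p ^ (d - 2) + 1) * p) ∧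
    (Even d → 2 < q → (∀ g : (↥(Cfsg.GU d F q) ⧸ Subgroup.center ↥(Cfsg.GU d F q)), orderOf g ≤ q ^ (d - 1) + 1) ∧
      ∃ g : (↥(Cfsg.GU d F q) ⧸ Subgroup.center ↥(Cfsg.GU d F q)), orderOf g = q ^ (d - 1) + 1) ∧
    (Even d → q = 2 → (∀ g : (↥(Cfsg.GU d F q) ⧸ Subgroup.center ↥(Cfsg.GU d F q)), orderOf g ≤ 4 * (2 ^ (d - 3) + 1)) ∧
      ∃ g : (↥(Cfsg.GU d F q) ⧸ Subgroup.center ↥(Cfsg.GU d F q)), orderOf g = 4 * (2 ^ (d - 3) + 1)) := by
  haveI : Fact p.Prime := ⟨hp⟩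
  haveI : CharP F p := by
    refine charP_of_card_eq_prime_pow (f := f * 2) ?_
    rw [hF, hq, ← pow_mul]
  have hub := orderOf_le_bound (p := p) hf hq hF hd h32
  have att : ∀ (k r B : ℕ), 1 ≤ k → 1 ≤ r → k + r = d → T q k * p ^ Nat.clog p r = B →
      (∀ g : (↥(Cfsg.GU d F q) ⧸ Subgroup.center ↥(Cfsg.GU d F q)), orderOf g ≤ B) →
      ∃ g : (↥(Cfsg.GU d F q) ⧸ Subgroup.center ↥(Cfsg.GU d F q)), orderOf g = B := by
    intro k r B hk hr hkr hB hle
    subst hkr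
    obtain ⟨x, hx⟩ := exists_block (p := p) hf hq hF hk hr
    exact ⟨x, le_antisymm (hle x) (hB ▸ hx)⟩
  refine ⟨fun ho hf2 => ?_, fun ho hf1 => ?_, fun he hq2 => ?_, fun he hq2 => ?_⟩
  · have hle : ∀ g : (↥(Cfsg.GU d F q) ⧸ Subgroup.center ↥(Cfsg.GU d F q)), orderOf g ≤ q ^ (d - 1) - 1 := fun g => by
      obtain ⟨N, h1, h2⟩ := hub g
      exact h1.trans (h2.1 ho hf2)
    refine ⟨hle, att (d - 1) 1 _ (by omega) le_rfl (by omega) ?_ hle⟩
    rw [T, if_pos (Nat.Odd.sub_odd ho odd_one), Nat.clog_one_right, pow_zero, mul_one]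
  · have hle : ∀ g : (↥(Cfsg.GU d F q) ⧸ Subgroup.center ↥(Cfsg.GU d F q)), orderOf g ≤ (p ^ (d - 2) + 1) * p := fun g => by
      obtain ⟨N, h1, h2⟩ := hub g
      exact h1.trans (h2.2.1 ho hf1)
    refine ⟨hle, att (d - 2) 2 _ (by omega) (by omega) (by omega) ?_ hle⟩
    obtain ⟨j, hj⟩ := ho
    rw [T, if_neg (Nat.not_even_iff_odd.2 ⟨j - 1, by omega⟩), hq, hf1, pow_one,
      Nat.clog_eq_one le_rfl hp.two_le, pow_one]
  · have hle : ∀ g : (↥(Cfsg.GU d F q) ⧸ Subgroup.center ↥(Cfsg.GU d F q)), orderOf g ≤ q ^ (d - 1) + 1 := fun g => by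
      obtain ⟨N, h1, h2⟩ := hub g
      exact h1.trans (h2.2.2.1 he hq2)
    refine ⟨hle, att (d - 1) 1 _ (by omega) le_rfl (by omega) ?_ hle⟩
    obtain ⟨j, hj⟩ := he
    rw [T, if_neg (Nat.not_even_iff_odd.2 ⟨j - 1, by omega⟩), Nat.clog_one_right, pow_zero, mul_one]
  · have hle : ∀ g : (↥(Cfsg.GU d F q) ⧸ Subgroup.center ↥(Cfsg.GU d F q)), orderOf g ≤ 4 * (2 ^ (d - 3) + 1) := fun g => by
      obtain ⟨N, h1, h2⟩ := hub g
      exact h1.trans (h2.2.2.2 he hq2)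
    refine ⟨hle, att (d - 3) 3 _ (by obtain ⟨j, hj⟩ := he; omega) (by omega) (by omega) ?_ hle⟩
    obtain ⟨j, hj⟩ := he
    obtain rfl : p = 2 := by
      rw [hq2] at hq
      exact ((Nat.prime_dvd_prime_iff_eq hp Nat.prime_two).1 (hq ▸ dvd_pow_self p (by omega)))
    rw [T, if_neg (Nat.not_even_iff_odd.2 ⟨j - 2, by omega⟩), hq2, mul_comm]
    congr 1

end CfsgLib.Known.PGUMaxOrder
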